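import Groth.Agent.SliceDenseLib.Ring
import Mathlib

/-!
# Étale slices detect elements of standard smooth algebras
-/

set_option autoImplicit false
set_option linter.style.haveILetI false

noncomputable section

universe u

open TensorProduct

namespace SliceDenseLib

/-- A non-zero element of a standard smooth algebra is detected by an étale slice of a basic open. -/
theorem exists_immersive {A B : Type u} [CommRing A] [CommRing B] [Algebra A B] (n : ℕ)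
    [Algebra.IsStandardSmoothOfRelativeDimension n A B] {t : B} (ht : t ≠ 0) :
    ∃ (C : Type u) (_ : CommRing C) (_ : Algebra A C) (φ : B →ₐ[A] C) (h : B),
      Algebra.Etale A C ∧ IsUnit (φ h) ∧ (∀ c, ∃ (k : ℕ) (b : B), c * φ h ^ k = φ b) ∧ φ t ≠ 0 := by
  classical
  obtain ⟨A₀, B₀, _, _, hA₀, hB₀, ⟨e⟩⟩ :=
    Algebra.IsStandardSmoothOfRelativeDimension.exists_subalgebra_fg ℤ A B n
  -- enlarge the model so that `t` is defined over it
  obtain ⟨S, hS⟩ := TensorProduct.exists_finset (e t)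
  let A₁ : Subalgebra ℤ A := A₀ ⊔ Algebra.adjoin ℤ ((S.image Prod.fst : Finset A) : Set A)
  have hA₁ : A₁.FG := hA₀.sup ⟨S.image Prod.fst, rfl⟩
  letI : Algebra A₀ A₁ := (Subalgebra.inclusion (le_sup_left : A₀ ≤ A₁)).toRingHom.toAlgebra
  haveI : IsScalarTower A₀ A₁ A := IsScalarTower.of_algebraMap_eq fun _ => rfl
  haveI : IsNoetherianRing A₁ := isNoetherianRing_of_fg hA₁
  let B₁ := A₁ ⊗[A₀] B₀
  let c : A ⊗[A₁] B₁ ≃ₐ[A] A ⊗[A₀] B₀ := Algebra.TensorProduct.cancelBaseChange A₀ A₁ A A B₀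
  let ε : B ≃ₐ[A] A ⊗[A₁] B₁ := e.trans c.symm
  have hmem : ∀ p : A × B₀, p ∈ S → p.1 ∈ A₁ := fun p hp =>
    (le_sup_right : _ ≤ A₁) (Algebra.subset_adjoin (Finset.mem_coe.2 (Finset.mem_image_of_mem _ hp)))
  let t₁ : B₁ := ∑ p ∈ S.attach, (⟨p.1.1, hmem p.1 p.2⟩ : A₁) ⊗ₜ[A₀] p.1.2
  have ht₁ : ε t = (1 : A) ⊗ₜ[A₁] t₁ := by
    apply c.injective
    show c (c.symm (e t)) = _
    rw [AlgEquiv.apply_symm_apply, hS, TensorProduct.tmul_sum, map_sum,
      ← Finset.sum_attach S (fun p => p.1 ⊗ₜ[A₀] p.2)]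
    refine Finset.sum_congr rfl fun p _ => ?_
    rw [show c ((1 : A) ⊗ₜ[A₁] ((⟨p.1.1, hmem p.1 p.2⟩ : A₁) ⊗ₜ[A₀] p.1.2)) = _ from
      Algebra.TensorProduct.cancelBaseChange_tmul _ _ _ _ _ _ _ _]
    rw [Algebra.smul_def, mul_one]
    rfl
  have ht0 : t₁ ≠ 0 := fun h => ht (ε.injective (by rw [ht₁, h, tmul_zero, map_zero]))
  -- the slice over the Noetherian model
  obtain ⟨g, hg⟩ := Algebra.IsStandardSmoothOfRelativeDimension.exists_etale_mvPolynomial (R := A₁) (S := B₁) n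
  algebraize [g.toRingHom]
  haveI : IsScalarTower A₁ (MvPolynomial (Fin n) A₁) B₁ := IsScalarTower.of_algebraMap_eq fun a => (g.commutes a).symm
  obtain ⟨P, hP⟩ := exists_slice_ne_zero (A := A₁) (B := B₁) (n := n) ht0
  obtain ⟨C₁, iC₁, iA₁C₁, φ₁, h₁, hEt, hu₁, hsurj₁, hφt₁⟩ : ∃ (C₁ : Type u) (_ : CommRing C₁) (_ : Algebra A₁ C₁)
      (φ₁ : B₁ →ₐ[A₁] C₁) (h₁ : B₁), Algebra.Etale A₁ C₁ ∧ IsUnit (φ₁ h₁) ∧
      (∀ z : C₁, ∃ (k : ℕ) (b : B₁), z * φ₁ h₁ ^ k = φ₁ b) ∧ φ₁ t₁ ≠ 0 := by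
    let τ := fun i => algebraMap (MvPolynomial (Fin n) A₁) B₁ (MvPolynomial.X i)
    refine ⟨Slice τ P, inferInstance, inferInstance, IsScalarTower.toAlgHom A₁ B₁ (Slice τ P), den τ P,
      etale_slice P, isUnit_den τ P, fun z => ?_, hP⟩
    obtain ⟨w, rfl⟩ := Ideal.Quotient.mk_surjective z
    obtain ⟨k, b, hb⟩ := IsLocalization.Away.surj (den τ P) w
    refine ⟨k, b, ?_⟩
    have := congrArg (Ideal.Quotient.mk (rel τ P)) hb
    rw [map_mul, map_pow] at this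
    exact this
  let φ : B →ₐ[A] A ⊗[A₁] C₁ := (Algebra.TensorProduct.map (AlgHom.id A A) φ₁).comp ε.toAlgHom
  let h : B := ε.symm ((1 : A) ⊗ₜ[A₁] h₁)
  have hφh : φ h = (1 : A) ⊗ₜ[A₁] φ₁ h₁ := by simp [φ, h]
  refine ⟨A ⊗[A₁] C₁, inferInstance, inferInstance, φ, h, inferInstance, ?_, fun z => ?_, ?_⟩
  · rw [hφh]
    exact hu₁.map (Algebra.TensorProduct.includeRight : C₁ →ₐ[A₁] A ⊗[A₁] C₁)
  · induction z using TensorProduct.induction_on with
    | zero => exact ⟨0, 0, by simp⟩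
    | tmul a w =>
      obtain ⟨k, b, hb⟩ := hsurj₁ w
      refine ⟨k, ε.symm (a ⊗ₜ[A₁] b), ?_⟩
      rw [hφh, Algebra.TensorProduct.tmul_pow, one_pow, Algebra.TensorProduct.tmul_mul_tmul, mul_one, hb]
      simp [φ]
    | add z z' hz hz' =>
      obtain ⟨k, b, hb⟩ := hz
      obtain ⟨k', b', hb'⟩ := hz'
      refine ⟨k + k', b * h ^ k' + b' * h ^ k, ?_⟩
      rw [map_add, map_mul, map_mul, map_pow, map_pow, ← hb, ← hb', pow_add]
      ring
  · intro h0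
    apply hφt₁
    have hinj := Algebra.TensorProduct.includeRight_injective (R := A₁) (A := A) (B := C₁) Subtype.val_injective
    apply hinj
    rw [map_zero, ← h0]
    show (1 : A) ⊗ₜ[A₁] φ₁ t₁ = (Algebra.TensorProduct.map (AlgHom.id A A) φ₁) (ε t)
    rw [ht₁]
    rfl

end SliceDenseLib
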