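import Groth.Agent.SliceDenseLib.Ring
import Groth.Agent.SliceDenseLib.Main
import Groth.Agent.FlatLib.GenericFree
import Groth.Agent.RichLib.FlatModel
import Mathlib

/-!
# Étale slices of a smooth algebra detect elements of a flat algebra of finite presentation
-/

set_option autoImplicit false
set_option maxHeartbeats 400000
set_option synthInstance.maxHeartbeats 80000
set_option linter.style.haveILetI false

noncomputable section

universe u

open TensorProduct

namespace SliceDenseLib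

/-- An element of a flat algebra which is nonzero on a reduced fibre is nonzero at the points of a
non-empty open of the fibre of the base. -/
theorem exists_fibre_open {A B D : Type u} [CommRing A] [CommRing B] [CommRing D] [Algebra A B] [Algebra A D]
    [Algebra B D] [IsScalarTower A B D] [Module.Flat B D] [Algebra.FiniteType B D] (p : Ideal A) [p.IsPrime]
    [_root_.IsReduced (p.Fiber B)] [IsNoetherianRing (p.Fiber B)] (q : Ideal D) [q.IsPrime]
    (hqp : q.comap (algebraMap A D) = p) (b : D) (hb : ∀ r ∉ q, r * b ∉ p.map (algebraMap A D)) :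
    ∃ (b' : B) (x₀ : Ideal B), x₀.IsPrime ∧ x₀.comap (algebraMap A B) = p ∧ b' ∉ x₀ ∧
      ∀ (x : Ideal B) [x.IsPrime], x.comap (algebraMap A B) = p → b' ∉ x →
        (1 : x.ResidueField) ⊗ₜ[B] b ≠ 0 := by
  classical
  let ι : B →ₐ[A] p.Fiber B := Algebra.TensorProduct.includeRight
  let M : Set (Ideal (p.Fiber B)) := minimalPrimes (p.Fiber B)
  have hfin : M.Finite := minimalPrimes.finite_of_isNoetherianRing _
  haveI : Fintype M := hfin.fintype
  haveI hprime : ∀ η : M, (η.1).IsPrime := fun η => η.2.1.1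
  have hover : ∀ η : M, (η.1.comap ι.toRingHom).comap (algebraMap A B) = p := fun η => by
    rw [Ideal.comap_comap, show ι.toRingHom.comp (algebraMap A B) = algebraMap A (p.Fiber B) from ι.comp_algebraMap,
      IsScalarTower.algebraMap_eq A p.ResidueField (p.Fiber B), ← Ideal.comap_comap]
    have h0 : η.1.comap (algebraMap p.ResidueField (p.Fiber B)) = ⊥ :=
      (Ideal.eq_bot_or_top _).resolve_right (Ideal.IsPrime.comap _).ne_top
    rw [h0, ← RingHom.ker_eq_comap_bot, Ideal.ker_algebraMap_residueField]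
  have hinf : ∀ z : p.Fiber B, (∀ η : M, z ∈ η.1) → z = 0 := fun z hz => by
    refine IsReduced.eq_zero _ ?_
    rw [← mem_nilradical]
    show z ∈ (⊥ : Ideal (p.Fiber B)).radical
    rw [← Ideal.sInf_minimalPrimes, Ideal.mem_sInf]
    exact fun {η} hη => hz ⟨η, hη⟩
  -- `b` is nonzero over some component of the fibre
  obtain ⟨η, hη⟩ : ∃ η : M, (Submodule.Quotient.mk (1 : B) : B ⧸ η.1.comap ι.toRingHom) ⊗ₜ[B] b ≠ 0 := by
    by_contra h
    push Not at h
    let I : Ideal B := RingHom.ker ι.toRingHom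
    let f : (B ⧸ I) →ₗ[B] ((η : M) → B ⧸ η.1.comap ι.toRingHom) :=
      Submodule.liftQ I (LinearMap.pi fun η => Submodule.mkQ _) fun y hy => by
        rw [LinearMap.mem_ker]
        ext η
        rw [LinearMap.pi_apply, Submodule.mkQ_apply]
        refine (Submodule.Quotient.mk_eq_zero _).2 ?_
        show ι y ∈ η.1
        rw [show ι y = 0 from hy]
        exact zero_mem _
    have hf : Function.Injective f := by
      rw [injective_iff_map_eq_zero]
      intro z hz
      obtain ⟨y, rfl⟩ := Submodule.Quotient.mk_surjective _ z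
      refine (Submodule.Quotient.mk_eq_zero _).2 (hinf _ fun η => ?_)
      exact (Submodule.Quotient.mk_eq_zero (η.1.comap ι.toRingHom)).1 (congrFun hz η)
    have h1 : f.rTensor D ((Submodule.Quotient.mk (1 : B) : B ⧸ I) ⊗ₜ[B] b) = 0 := by
      let e := TensorProduct.piLeft (R := B) (N := D) (M := fun η : M => B ⧸ η.1.comap ι.toRingHom)
      apply e.injective
      rw [map_zero, LinearMap.rTensor_tmul,
        show f (Submodule.Quotient.mk (1 : B)) = fun η => Submodule.Quotient.mk (1 : B) from rfl]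
      ext η
      exact h η
    have h2 := Module.Flat.rTensor_preserves_injective_linearMap (M := D) f hf (h1.trans (map_zero _).symm)
    have h3 := congrArg (TensorProduct.quotTensorEquivQuotSMul D I) h2
    rw [map_zero] at h3
    have h4 : (Submodule.Quotient.mk b : D ⧸ (I • ⊤ : Submodule B D)) = 0 :=
      (TensorProduct.quotTensorEquivQuotSMul_mk_one_tmul I b).symm.trans h3
    rw [Submodule.Quotient.mk_eq_zero, Ideal.smul_top_eq_map, Submodule.restrictScalars_mem] at h4
    have key : ∀ z ∈ I.map (algebraMap B D), ∃ r ∉ q, r * z ∈ p.map (algebraMap A D) := by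
      intro z hz
      induction hz using Submodule.span_induction with
      | mem z hz =>
        obtain ⟨y, hy, rfl⟩ := hz
        obtain ⟨s, hs, hsy⟩ := FlatLib.exists_mul_mem_map_of_fiber_eq_zero p hy (q.comap (algebraMap B D))
          (by rw [Ideal.comap_comap, ← IsScalarTower.algebraMap_eq, hqp])
        refine ⟨algebraMap B D s, hs, ?_⟩
        rw [← map_mul, IsScalarTower.algebraMap_eq A B D, ← Ideal.map_map]
        exact Ideal.mem_map_of_mem _ hsy
      | zero => exact ⟨1, fun h => ‹q.IsPrime›.ne_top ((Ideal.eq_top_iff_one _).2 h), by simp⟩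
      | add z z' _ _ hz hz' =>
        obtain ⟨r, hr, hrz⟩ := hz
        obtain ⟨r', hr', hrz'⟩ := hz'
        refine ⟨r * r', q.primeCompl.mul_mem hr hr', ?_⟩
        rw [mul_add]
        refine add_mem ?_ ?_
        · rw [mul_comm r r', mul_assoc]
          exact Ideal.mul_mem_left _ _ hrz
        · rw [mul_assoc]
          exact Ideal.mul_mem_left _ _ hrz'
      | smul a z _ hz =>
        obtain ⟨r, hr, hrz⟩ := hz
        refine ⟨r, hr, ?_⟩
        rw [smul_eq_mul, mul_left_comm]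
        exact Ideal.mul_mem_left _ _ hrz
    obtain ⟨r, hr, hrb⟩ := key b h4
    exact hb r hr hrb
  let x₀ : Ideal B := η.1.comap ι.toRingHom
  haveI hx₀ : x₀.IsPrime := Ideal.IsPrime.comap _
  -- separate the other components
  have hsep : ∀ η' : M, ∃ s : B, s ∉ x₀ ∧ (η' ≠ η → ι s ∈ η'.1) := fun η' => by
    by_cases hne : η' = η
    · exact ⟨1, fun h => hx₀.ne_top ((Ideal.eq_top_iff_one _).2 h), fun h => absurd hne h⟩
    obtain ⟨z, hz, hz'⟩ : ∃ z ∈ η'.1, z ∉ η.1 := by
      by_contra hle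
      push Not at hle
      exact hne (Subtype.ext (le_antisymm hle (η.2.2 η'.2.1 hle)))
    obtain ⟨r, hr, s, hrs⟩ := Ideal.Fiber.exists_smul_eq_one_tmul p z
    have hu : IsUnit (algebraMap A (p.Fiber B) r) := by
      rw [IsScalarTower.algebraMap_apply A p.ResidueField (p.Fiber B)]
      exact (isUnit_iff_ne_zero.2 fun h => hr (Ideal.algebraMap_residueField_eq_zero.1 h)).map _
    have hs : ι s = algebraMap A (p.Fiber B) r * z := by rw [← Algebra.smul_def]; exact hrs.symm
    refine ⟨s, fun h => hz' ?_, fun _ => by rw [hs]; exact Ideal.mul_mem_left _ _ hz⟩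
    have h' : ι s ∈ η.1 := h
    rw [hs] at h'
    exact (Ideal.unit_mul_mem_iff_mem _ hu).1 h'
  choose s hs hs' using hsep
  let h₀ : B := ∏ η', s η'
  have hh₀ : h₀ ∉ x₀ := by
    rw [hx₀.prod_mem_iff]
    rintro ⟨η', -, h⟩
    exact hs η' h
  have hle : ∀ (x : Ideal B) [x.IsPrime], x.comap (algebraMap A B) = p → h₀ ∉ x → x₀ ≤ x := by
    intro x hx hxp hhx
    let Q := PrimeSpectrum.preimageHomeomorphFiber A B ⟨p, inferInstance⟩
      ⟨⟨x, hx⟩, PrimeSpectrum.ext hxp⟩
    have hQ : PrimeSpectrum.comap ι.toRingHom Q = ⟨x, hx⟩ :=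
      congrArg Subtype.val ((PrimeSpectrum.preimageHomeomorphFiber A B ⟨p, inferInstance⟩).symm_apply_apply
        ⟨⟨x, hx⟩, PrimeSpectrum.ext hxp⟩)
    have hQ' : Q.asIdeal.comap ι.toRingHom = x := congrArg PrimeSpectrum.asIdeal hQ
    obtain ⟨η', hη', hle'⟩ := Ideal.exists_minimalPrimes_le (I := (⊥ : Ideal (p.Fiber B))) (J := Q.asIdeal) bot_le
    by_cases hne : (⟨η', hη'⟩ : M) = η
    · rw [← hQ']
      have e : η.1 = η' := congrArg Subtype.val hne.symm
      show η.1.comap ι.toRingHom ≤ _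
      rw [e]
      exact Ideal.comap_mono hle'
    · refine absurd ?_ hhx
      have : s ⟨η', hη'⟩ ∈ x := by
        rw [← hQ']
        exact hle' (hs' ⟨η', hη'⟩ hne)
      rw [show h₀ = ∏ η', s η' from rfl, hx.prod_mem_iff]
      exact ⟨⟨η', hη'⟩, Finset.mem_univ _, this⟩
  -- generic freeness over the component
  let R := B ⧸ x₀
  let S' := R ⊗[B] D
  obtain ⟨f, hf, hfree⟩ := FlatLib.gfree_of_finite (R := R) S' S'
  let L := Localization.Away f
  let v : L ⊗[R] S' := (1 : L) ⊗ₜ[R] ((1 : R) ⊗ₜ[B] b)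
  have hv : v ≠ 0 := by
    intro h
    apply hη
    refine (Algebra.TensorProduct.includeRight_injective (R := R) (A := L) (B := S')
      (IsLocalization.injective L (powers_le_nonZeroDivisors_of_noZeroDivisors hf)) ?_ :
        ((1 : R) ⊗ₜ[B] b : S') = 0)
    rw [map_zero]
    exact h
  let β := Module.Free.chooseBasis L (L ⊗[R] S')
  obtain ⟨i, hi⟩ : ∃ i, β.repr v i ≠ 0 := by
    by_contra h
    push Not at h
    exact hv (β.repr.injective (by ext i; simpa using h i))
  let φ : D →ₗ[B] L :=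
    (((Finsupp.lapply i).comp β.repr.toLinearMap).restrictScalars B).comp
      (((TensorProduct.mk R L S' 1).restrictScalars B).comp (TensorProduct.mk B R D 1))
  have hφ : φ b = β.repr v i := rfl
  obtain ⟨⟨c', g, m, hg⟩, hc⟩ := IsLocalization.surj (Submonoid.powers f) (φ b)
  replace hg : f ^ m = g := hg
  subst hg
  replace hc : φ b * algebraMap R L (f ^ m) = algebraMap R L c' := hc
  have hc' : c' ≠ 0 := by
    intro h
    rw [h, map_zero] at hc
    exact hi ((IsUnit.mul_left_eq_zero (by rw [map_pow]; exact (IsLocalization.Away.algebraMap_isUnit f).pow m)).1 hc)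
  obtain ⟨cB, rfl⟩ := Ideal.Quotient.mk_surjective c'
  obtain ⟨fB, rfl⟩ := Ideal.Quotient.mk_surjective f
  refine ⟨fB * cB * h₀, x₀, hx₀, hover η, fun h => ?_, fun x hx hxp hb' h0 => ?_⟩
  · rcases hx₀.mem_or_mem h with h | h
    · rcases hx₀.mem_or_mem h with h | h
      · exact hf (Ideal.Quotient.eq_zero_iff_mem.2 h)
      · exact hc' (Ideal.Quotient.eq_zero_iff_mem.2 h)
    · exact hh₀ h
  have hx0x : x₀ ≤ x := hle x hxp fun h => hb' (Ideal.mul_mem_left _ _ h)
  let ev : R →+* x.ResidueField := Ideal.Quotient.lift x₀ (algebraMap B x.ResidueField) fun y hy =>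
    Ideal.algebraMap_residueField_eq_zero.2 (hx0x hy)
  have hev : ∀ y, ev (Ideal.Quotient.mk x₀ y) = algebraMap B x.ResidueField y := fun y => rfl
  have hfu : IsUnit (ev (Ideal.Quotient.mk x₀ fB)) := by
    rw [hev, isUnit_iff_ne_zero]
    exact fun h => hb' (Ideal.mul_mem_right _ _ (Ideal.mul_mem_right _ _ (Ideal.algebraMap_residueField_eq_zero.1 h)))
  let ηL : L →+* x.ResidueField := IsLocalization.Away.lift (Ideal.Quotient.mk x₀ fB) hfu
  have hηL : ∀ y, ηL (algebraMap R L y) = ev y := fun y => IsLocalization.Away.lift_eq _ hfu y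
  let ηA : L →ₐ[B] x.ResidueField :=
    { ηL with
      commutes' := fun y => by
        show ηL (algebraMap B L y) = _
        rw [IsScalarTower.algebraMap_apply B R L]
        exact hηL _ }
  let ψ : x.ResidueField ⊗[B] D →ₗ[B] x.ResidueField :=
    (LinearMap.mul' B x.ResidueField).comp (TensorProduct.map LinearMap.id (ηA.toLinearMap.comp φ))
  have h1 : ηL (φ b) = 0 := by
    have := congrArg ψ h0
    simpa [ψ, ηA] using this
  have h2 := congrArg ηL hc
  rw [map_mul, h1, zero_mul, hηL, hev] at h2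
  exact hb' (Ideal.mul_mem_right _ _ (Ideal.mul_mem_left _ _ (Ideal.algebraMap_residueField_eq_zero.1 h2.symm)))

section Slice

variable {A B D : Type u} [CommRing A] [CommRing B] [CommRing D] [Algebra A B] {n : ℕ}
  [Algebra (MvPolynomial (Fin n) A) B] [IsScalarTower A (MvPolynomial (Fin n) A) B]
  [Algebra.Etale (MvPolynomial (Fin n) A) B] [IsNoetherianRing A]
  [Algebra A D] [Algebra B D] [IsScalarTower A B D] [Module.Flat B D] [Algebra.FiniteType B D]

local notation "τ" => fun i => algebraMap (MvPolynomial (Fin n) A) B (MvPolynomial.X i)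

/-- A non-zero element of a flat algebra is detected by a slice. -/
theorem exists_slice_tmul_ne_zero {t : D} (ht : t ≠ 0) :
    ∃ P : Fin n → Polynomial A, (1 : Slice (τ) P) ⊗ₜ[B] t ≠ 0 := by
  classical
  haveI : Algebra.Smooth A (MvPolynomial (Fin n) A) := ⟨inferInstance, inferInstance⟩
  haveI : Algebra.Smooth A B := Algebra.Smooth.comp A (MvPolynomial (Fin n) A) B
  haveI : Algebra.FiniteType A B := inferInstance
  haveI : IsNoetherianRing B := Algebra.FiniteType.isNoetherianRing A B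
  haveI : IsNoetherianRing D := Algebra.FiniteType.isNoetherianRing B D
  obtain ⟨q, hq, hqt⟩ : ∃ q : Ideal D, q.IsMaximal ∧ ∀ s, s * t = 0 → s ∈ q := by
    have h1 : (Ideal.torsionOf D D t) ≠ ⊤ := fun h => ht (by
      have := (Ideal.eq_top_iff_one _).1 h
      simpa using this)
    obtain ⟨q, hq, hle⟩ := Ideal.exists_le_maximal _ h1
    exact ⟨q, hq, fun s hs => hle (by simpa using hs)⟩
  haveI := hq.isPrime
  let p := q.comap (algebraMap A D)
  let R := Localization.AtPrime q
  have hR : algebraMap D R t ≠ 0 := by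
    rw [Ne, IsLocalization.map_eq_zero_iff q.primeCompl]
    rintro ⟨⟨s, hs⟩, h⟩
    exact hs (hqt s h)
  have hpR : p.map (algebraMap A R) ≤ IsLocalRing.maximalIdeal R := by
    rw [IsScalarTower.algebraMap_eq A D R, ← Ideal.map_map, ← Localization.AtPrime.map_eq_maximalIdeal]
    exact Ideal.map_mono Ideal.map_comap_le
  obtain ⟨k, hk, hk1⟩ : ∃ k : ℕ, algebraMap D R t ∈ (p ^ k).map (algebraMap A R) ∧
      algebraMap D R t ∉ (p ^ (k + 1)).map (algebraMap A R) := by
    by_contra h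
    push Not at h
    have hall : ∀ k, algebraMap D R t ∈ (p ^ k).map (algebraMap A R) := fun k => by
      induction k with
      | zero => rw [pow_zero, Ideal.one_eq_top, Ideal.map_top]; trivial
      | succ k ih => exact h k ih
    refine hR ?_
    have hbot := Ideal.iInf_pow_eq_bot_of_isLocalRing (I := p.map (algebraMap A R))
      (fun h => (IsLocalRing.maximalIdeal.isMaximal R).ne_top (top_le_iff.1 (h ▸ hpR)))
    have : algebraMap D R t ∈ ⨅ k, p.map (algebraMap A R) ^ k :=
      Submodule.mem_iInf _ |>.2 fun k => by rw [← Ideal.map_pow]; exact hall k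
    rw [hbot] at this
    exact this
  obtain ⟨s, hs⟩ : (p ^ k).FG := IsNoetherian.noetherian _
  obtain ⟨J, a, hJ, has, htJ, htJa⟩ := exists_step hk1 s (Ideal.map_mono (by
    rw [← hs]
    exact le_sup_right) hk)
  have hak : a ∈ p ^ k := by rw [← hs]; exact Submodule.subset_span has
  have hcolon : ∀ r, r * a ∈ J ↔ r ∈ p := fun r => by
    refine ⟨fun h => ?_, fun h => hJ (by rw [pow_succ']; exact Ideal.mul_mem_mul h hak)⟩
    by_contra hr
    refine htJ ?_
    have hu : IsUnit (algebraMap A R r) := by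
      rw [IsScalarTower.algebraMap_apply A D R]
      exact IsLocalization.map_units R (⟨algebraMap A D r, hr⟩ : q.primeCompl)
    have ha : algebraMap A R a ∈ J.map (algebraMap A R) :=
      (Ideal.unit_mul_mem_iff_mem _ hu).1 (by rw [← map_mul]; exact Ideal.mem_map_of_mem _ h)
    refine (show (J ⊔ Ideal.span {a}).map (algebraMap A R) ≤ J.map (algebraMap A R) from ?_) htJa
    rw [Ideal.map_sup, Ideal.map_span, Set.image_singleton]
    exact sup_le le_rfl ((Ideal.span_singleton_le_iff_mem _).2 ha)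
  -- clear the denominators
  obtain ⟨s₀, hs₀, hsum⟩ : ∃ s₀ ∉ q, s₀ * t ∈ (J ⊔ Ideal.span {a}).map (algebraMap A D) := by
    rw [IsScalarTower.algebraMap_eq A D R, ← Ideal.map_map,
      IsLocalization.algebraMap_mem_map_algebraMap_iff q.primeCompl] at htJa
    obtain ⟨s₀, hs₀, h⟩ := htJa
    exact ⟨s₀, hs₀, h⟩
  rw [Ideal.map_sup, Ideal.map_span, Set.image_singleton, Submodule.mem_sup] at hsum
  obtain ⟨j, hj, z, hz, hjz⟩ := hsum
  obtain ⟨b, rfl⟩ := Ideal.mem_span_singleton'.1 hz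
  -- `b` does not vanish on the whole fibre
  have hb : ∀ r ∉ q, r * b ∉ p.map (algebraMap A D) := fun r hr h => htJ (by
    rw [IsScalarTower.algebraMap_eq A D R, ← Ideal.map_map,
      IsLocalization.algebraMap_mem_map_algebraMap_iff q.primeCompl]
    refine ⟨r * s₀, q.primeCompl.mul_mem hr hs₀, ?_⟩
    rw [mul_assoc, ← hjz, mul_add]
    refine add_mem (Ideal.mul_mem_left _ _ hj) ?_
    rw [← mul_assoc]
    have h1 : ∀ w ∈ p.map (algebraMap A D), w * algebraMap A D a ∈ J.map (algebraMap A D) := fun w hw => by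
      have h2 : w * algebraMap A D a ∈ p.map (algebraMap A D) * (Ideal.span {a}).map (algebraMap A D) :=
        Ideal.mul_mem_mul hw (Ideal.mem_map_of_mem _ (Ideal.mem_span_singleton_self a))
      rw [← Ideal.map_mul] at h2
      refine Ideal.map_mono (Ideal.mul_le.2 fun x hx y hy => ?_) h2
      obtain ⟨c, rfl⟩ := Ideal.mem_span_singleton'.1 hy
      rw [← mul_assoc]
      exact (hcolon _).2 (Ideal.mul_mem_right _ _ hx)
    exact h1 _ h)
  haveI : p.IsPrime := Ideal.IsPrime.comap _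
  haveI : _root_.IsReduced (p.Fiber B) := isReduced_smooth p.ResidueField (p.Fiber B)
  haveI : IsNoetherianRing (p.Fiber B) := Algebra.FiniteType.isNoetherianRing p.ResidueField (p.Fiber B)
  obtain ⟨b', x₀, hx₀, hx₀p, hb'x₀, hgood⟩ := exists_fibre_open (B := B) p q rfl b hb
  obtain ⟨P, x, hx, hxp, hbx, hden, hPx⟩ := exists_separable_slice (n := n) p x₀ hx₀p b' hb'x₀
  refine ⟨P, fun h0 => ?_⟩
  haveI := hx
  haveI : Algebra.Etale A (Slice (τ) P) := etale_slice P
  have aux : ∀ (E : Type u) [CommRing E] [Algebra A E] [Module.Flat A E] (i : D →ₐ[A] E),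
      i t = 0 → i b ∈ p.map (algebraMap A E) := by
    intro E _ _ _ i hi
    refine mem_map_of_mul_mem hcolon ?_
    have h1 : i (s₀ * t) = 0 := by rw [map_mul, hi, mul_zero]
    rw [← hjz, map_add, map_mul, AlgHom.commutes, add_eq_zero_iff_eq_neg'] at h1
    rw [mul_comm, h1, neg_mem_iff, show algebraMap A E = i.toRingHom.comp (algebraMap A D) from
      RingHom.ext fun r => (i.commutes r).symm, ← Ideal.map_map]
    exact Ideal.mem_map_of_mem _ hj
  haveI : Module.Flat A (Slice (τ) P ⊗[B] D) := Module.Flat.trans A (Slice (τ) P) _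
  have hbE := aux (Slice (τ) P ⊗[B] D)
    ((Algebra.TensorProduct.includeRight : D →ₐ[B] Slice (τ) P ⊗[B] D).restrictScalars A) h0
  obtain ⟨φ, hφ⟩ := exists_lift (A := A) (τ) P (IsScalarTower.toAlgHom A B x.ResidueField)
    (isUnit_iff_ne_zero.2 fun h => hden (Ideal.algebraMap_residueField_eq_zero.1 h))
    fun i => Ideal.algebraMap_residueField_eq_zero.2 (hPx i)
  let φB : Slice (τ) P →ₐ[B] x.ResidueField := { φ.toRingHom with commutes' := hφ }
  let Θ : Slice (τ) P ⊗[B] D →ₐ[B] x.ResidueField ⊗[B] D := Algebra.TensorProduct.map φB (AlgHom.id B D)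
  have hker : p.map (algebraMap A (Slice (τ) P ⊗[B] D)) ≤ RingHom.ker Θ := Ideal.map_le_iff_le_comap.2 fun r hr => by
    show Θ ((algebraMap A (Slice (τ) P) r) ⊗ₜ[B] (1 : D)) = 0
    rw [Algebra.TensorProduct.map_tmul, show φB (algebraMap A _ r) = 0 from ?_, TensorProduct.zero_tmul]
    show φ (algebraMap A _ r) = 0
    rw [AlgHom.commutes, IsScalarTower.algebraMap_apply A B x.ResidueField]
    exact Ideal.algebraMap_residueField_eq_zero.2 (by rw [← hxp] at hr; exact hr)
  refine hgood x hxp hbx ?_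
  have h2 : Θ ((1 : Slice (τ) P) ⊗ₜ[B] b) = 0 := hker hbE
  rw [← h2]
  show (1 : x.ResidueField) ⊗ₜ[B] b = Θ ((1 : Slice (τ) P) ⊗ₜ[B] b)
  rw [Algebra.TensorProduct.map_tmul, map_one]
  rfl

end Slice

set_option backward.isDefEq.respectTransparency false in
set_option backward.isDefEq.respectTransparency.types false in
/-- Étale slices of a Noetherian model give étale slices. -/
theorem immersive_of_model {A₁ A B₁ B D₁ D : Type u} [CommRing A₁] [IsNoetherianRing A₁] [CommRing A] [CommRing B₁]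
    [CommRing B] [CommRing D₁] [CommRing D] [Algebra A₁ A] [Algebra A₁ B₁] [Algebra A B] [Algebra B₁ B]
    [Algebra B₁ D₁] [Algebra.FiniteType B₁ D₁] [Module.Flat B₁ D₁] [Algebra B D] (n : ℕ)
    [Algebra.IsStandardSmoothOfRelativeDimension n A₁ B₁] (hA : Function.Injective (algebraMap A₁ A))
    (ε : B ≃ₐ[A] A ⊗[A₁] B₁) (hε : ∀ y, algebraMap B₁ B y = ε.symm ((1 : A) ⊗ₜ[A₁] y))
    (eD : B ⊗[B₁] D₁ ≃ₗ[B] D) (t₁ : D₁) {t : D} (ht₁ : eD ((1 : B) ⊗ₜ[B₁] t₁) = t) (ht : t ≠ 0) :
    ∃ (C : Type u) (_ : CommRing C) (_ : Algebra A C) (φ : B →ₐ[A] C) (h : B),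
      Algebra.Etale A C ∧ IsUnit (φ h) ∧ (∀ c, ∃ (k : ℕ) (b : B), c * φ h ^ k = φ b) ∧
      (letI := φ.toRingHom.toAlgebra; (1 : C) ⊗ₜ[B] t ≠ 0) := by
  classical
  have ht0 : t₁ ≠ 0 := fun h => ht (by rw [← ht₁, h, tmul_zero, map_zero])
  let j : B₁ →+* B := algebraMap B₁ B
  -- the slice over the Noetherian model
  obtain ⟨g, hg⟩ := Algebra.IsStandardSmoothOfRelativeDimension.exists_etale_mvPolynomial (R := A₁) (S := B₁) n
  algebraize [g.toRingHom]
  haveI : IsScalarTower A₁ (MvPolynomial (Fin n) A₁) B₁ := IsScalarTower.of_algebraMap_eq fun a => (g.commutes a).symm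
  letI : Algebra A₁ D₁ := ((algebraMap B₁ D₁).comp (algebraMap A₁ B₁)).toAlgebra
  haveI : IsScalarTower A₁ B₁ D₁ := IsScalarTower.of_algebraMap_eq fun _ => rfl
  obtain ⟨P, hP⟩ := exists_slice_tmul_ne_zero (A := A₁) (B := B₁) (D := D₁) (n := n) ht0
  obtain ⟨C₁, iC₁, iA₁C₁, φ₁, h₁, hEt, hu₁, hsurj₁, hφt₁⟩ : ∃ (C₁ : Type u) (_ : CommRing C₁) (_ : Algebra A₁ C₁)
      (φ₁ : B₁ →ₐ[A₁] C₁) (h₁ : B₁), Algebra.Etale A₁ C₁ ∧ IsUnit (φ₁ h₁) ∧
      (∀ z : C₁, ∃ (k : ℕ) (b : B₁), z * φ₁ h₁ ^ k = φ₁ b) ∧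
      (letI := φ₁.toRingHom.toAlgebra; (1 : C₁) ⊗ₜ[B₁] t₁ ≠ 0) := by
    let τ' := fun i => algebraMap (MvPolynomial (Fin n) A₁) B₁ (MvPolynomial.X i)
    refine ⟨Slice τ' P, inferInstance, inferInstance, IsScalarTower.toAlgHom A₁ B₁ (Slice τ' P), den τ' P,
      etale_slice P, isUnit_den τ' P, fun z => ?_, ?_⟩
    · obtain ⟨w, rfl⟩ := Ideal.Quotient.mk_surjective z
      obtain ⟨k, b, hb⟩ := IsLocalization.Away.surj (den τ' P) w
      refine ⟨k, b, ?_⟩
      have := congrArg (Ideal.Quotient.mk (rel τ' P)) hb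
      rw [map_mul, map_pow] at this
      exact this
    · have e : (IsScalarTower.toAlgHom A₁ B₁ (Slice τ' P)).toRingHom.toAlgebra =
          (inferInstance : Algebra B₁ (Slice τ' P)) := Algebra.algebra_ext _ _ fun _ => rfl
      rw [e]
      exact hP
  let φ : B →ₐ[A] A ⊗[A₁] C₁ := (Algebra.TensorProduct.map (AlgHom.id A A) φ₁).comp ε.toAlgHom
  let h : B := ε.symm ((1 : A) ⊗ₜ[A₁] h₁)
  have hφj : ∀ y, φ (algebraMap B₁ B y) = (1 : A) ⊗ₜ[A₁] φ₁ y := fun y => by simp [φ, hε]
  have hφh : φ h = (1 : A) ⊗ₜ[A₁] φ₁ h₁ := by simp [φ, h]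
  refine ⟨A ⊗[A₁] C₁, inferInstance, inferInstance, φ, h, inferInstance, ?_, fun z => ?_, ?_⟩
  · rw [hφh]
    exact hu₁.map (Algebra.TensorProduct.includeRight : C₁ →ₐ[A₁] A ⊗[A₁] C₁)
  · induction z using TensorProduct.induction_on with
    | zero => exact ⟨0, 0, by simp⟩
    | tmul a w =>
      obtain ⟨k, b, hb⟩ := hsurj₁ w
      refine ⟨k, ε.symm (a ⊗ₜ[A₁] b), ?_⟩
      rw [hφh, Algebra.TensorProduct.tmul_pow, one_pow, Algebra.TensorProduct.tmul_mul_tmul, mul_one, hb]
      simp [φ]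
    | add z z' hz hz' =>
      obtain ⟨k, b, hb⟩ := hz
      obtain ⟨k', b', hb'⟩ := hz'
      refine ⟨k + k', b * h ^ k' + b' * h ^ k, ?_⟩
      rw [map_add, map_mul, map_mul, map_pow, map_pow, ← hb, ← hb', pow_add]
      ring
  · letI : Algebra B (A ⊗[A₁] C₁) := φ.toRingHom.toAlgebra
    letI : Algebra B₁ C₁ := φ₁.toRingHom.toAlgebra
    intro h0
    letI : Algebra B₁ (A ⊗[A₁] C₁) := (φ.toRingHom.comp (algebraMap B₁ B)).toAlgebra
    haveI : IsScalarTower B₁ B (A ⊗[A₁] C₁) := IsScalarTower.of_algebraMap_eq fun _ => rfl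
    let inj : C₁ →ₗ[B₁] A ⊗[A₁] C₁ :=
      { toFun := fun w => (1 : A) ⊗ₜ[A₁] w
        map_add' := fun _ _ => tmul_add _ _ _
        map_smul' := fun y w => by
          show (1 : A) ⊗ₜ[A₁] (φ₁ y * w) = φ (algebraMap B₁ B y) * ((1 : A) ⊗ₜ[A₁] w)
          rw [hφj, Algebra.TensorProduct.tmul_mul_tmul, mul_one] }
    have hinj : Function.Injective inj :=
      Algebra.TensorProduct.includeRight_injective (R := A₁) (A := A) (B := C₁) hA
    apply hφt₁
    apply Module.Flat.rTensor_preserves_injective_linearMap (M := D₁) inj hinj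
    rw [map_zero, LinearMap.rTensor_tmul]
    show ((1 : A) ⊗ₜ[A₁] (1 : C₁)) ⊗ₜ[B₁] t₁ = 0
    have h1 := congrArg ((AlgebraTensorModule.cancelBaseChange B₁ B (A ⊗[A₁] C₁) (A ⊗[A₁] C₁) D₁) ∘
      (AlgebraTensorModule.congr (LinearEquiv.refl (A ⊗[A₁] C₁) (A ⊗[A₁] C₁)) eD.symm)) h0
    simp only [Function.comp_apply, map_zero, AlgebraTensorModule.congr_tmul, LinearEquiv.refl_apply] at h1
    rw [show eD.symm t = (1 : B) ⊗ₜ[B₁] t₁ from
      (eD.symm_apply_eq).2 ht₁.symm, AlgebraTensorModule.cancelBaseChange_tmul, one_smul] at h1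
    exact h1

/-- A non-zero element of a flat algebra of finite presentation over a standard smooth algebra is detected
by an étale slice of a basic open. -/
theorem exists_immersive_flat {A B D : Type u} [CommRing A] [CommRing B] [CommRing D] [Algebra A B] (n : ℕ)
    [Algebra.IsStandardSmoothOfRelativeDimension n A B] [Algebra B D] [Algebra.FinitePresentation B D]
    [Module.Flat B D] {t : D} (ht : t ≠ 0) :
    ∃ (C : Type u) (_ : CommRing C) (_ : Algebra A C) (φ : B →ₐ[A] C) (h : B),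
      Algebra.Etale A C ∧ IsUnit (φ h) ∧ (∀ c, ∃ (k : ℕ) (b : B), c * φ h ^ k = φ b) ∧
      (letI := φ.toRingHom.toAlgebra; (1 : C) ⊗ₜ[B] t ≠ 0) := by
  classical
  obtain ⟨A₀, B₀, _, _, hA₀, hB₀, ⟨e⟩⟩ :=
    Algebra.IsStandardSmoothOfRelativeDimension.exists_subalgebra_fg ℤ A B n
  obtain ⟨B', D', _, _, hB', _, _, _, _, ⟨e'⟩⟩ := RichLib.FlatModel.exists_flat_model B D
  obtain ⟨St, hSt⟩ := TensorProduct.exists_finset (e'.symm t)
  obtain ⟨G, hG⟩ := hB'.out
  let T : Finset B := G.image (algebraMap B' B) ∪ St.image Prod.fst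
  have hexp : ∀ z : B, ∃ S : Finset (A × B₀), e z = ∑ p ∈ S, p.1 ⊗ₜ[A₀] p.2 := fun z =>
    TensorProduct.exists_finset (e z)
  choose S hS using hexp
  let SA : Finset A := T.biUnion fun z => (S z).image Prod.fst
  let A₁ : Subalgebra ℤ A := A₀ ⊔ Algebra.adjoin ℤ (SA : Set A)
  have hA₁ : A₁.FG := hA₀.sup ⟨SA, rfl⟩
  letI : Algebra A₀ A₁ := (Subalgebra.inclusion (le_sup_left : A₀ ≤ A₁)).toRingHom.toAlgebra
  haveI : IsScalarTower A₀ A₁ A := IsScalarTower.of_algebraMap_eq fun _ => rfl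
  haveI : IsNoetherianRing A₁ := isNoetherianRing_of_fg hA₁
  let B₁ := A₁ ⊗[A₀] B₀
  let c : A ⊗[A₁] B₁ ≃ₐ[A] A ⊗[A₀] B₀ := Algebra.TensorProduct.cancelBaseChange A₀ A₁ A A B₀
  let ε : B ≃ₐ[A] A ⊗[A₁] B₁ := e.trans c.symm
  haveI : Algebra.IsStandardSmooth A₁ B₁ := Algebra.IsStandardSmoothOfRelativeDimension.isStandardSmooth n
  haveI : Algebra.Smooth A₁ B₁ := inferInstance
  haveI : Module.Flat A₁ B₁ := Algebra.Smooth.flat _ _
  let j : B₁ →+* B := ε.symm.toAlgHom.toRingHom.comp
    (Algebra.TensorProduct.includeRight : B₁ →ₐ[A₁] A ⊗[A₁] B₁).toRingHom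
  have hj : Function.Injective j := ε.symm.injective.comp
    (Algebra.TensorProduct.includeRight_injective (R := A₁) (A := A) (B := B₁) Subtype.val_injective)
  have hT : ∀ z ∈ T, z ∈ j.range := fun z hz => by
    have hmem : ∀ p : A × B₀, p ∈ S z → p.1 ∈ A₁ := fun p hp => (le_sup_right : _ ≤ A₁)
      (Algebra.subset_adjoin (Finset.mem_coe.2 (Finset.mem_biUnion.2 ⟨z, hz, Finset.mem_image_of_mem _ hp⟩)))
    refine ⟨∑ p ∈ (S z).attach, (⟨p.1.1, hmem p.1 p.2⟩ : A₁) ⊗ₜ[A₀] p.1.2, ?_⟩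
    apply ε.injective
    show ε (ε.symm _) = _
    rw [AlgEquiv.apply_symm_apply]
    apply c.injective
    show _ = c (c.symm (e z))
    rw [AlgEquiv.apply_symm_apply, hS z, ← Finset.sum_attach (S z) (fun p => p.1 ⊗ₜ[A₀] p.2)]
    change c (Algebra.TensorProduct.includeRight (R := A₁) (A := A) _) = _
    rw [map_sum, map_sum]
    refine Finset.sum_congr rfl fun p _ => ?_
    refine (Algebra.TensorProduct.cancelBaseChange_tmul _ _ _ _ _ _ _ _).trans ?_
    rw [Algebra.smul_def, mul_one]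
    rfl
  -- the ring of the flat model maps to the noetherian model
  have hρ : ∀ y : B', algebraMap B' B y ∈ j.range := by
    intro y
    have hy : y ∈ Algebra.adjoin ℤ (G : Set B') := by rw [hG]; trivial
    induction hy using Algebra.adjoin_induction with
    | mem y hy => exact hT _ (Finset.mem_union_left _ (Finset.mem_image_of_mem _ hy))
    | algebraMap r => rw [← IsScalarTower.algebraMap_apply ℤ B' B, eq_intCast]; exact intCast_mem _ r
    | add y y' _ _ h h' => rw [map_add]; exact add_mem h h'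
    | mul y y' _ _ h h' => rw [map_mul]; exact mul_mem h h'
  let re : B₁ ≃+* j.range := RingEquiv.ofBijective j.rangeRestrict
    ⟨fun x y h => hj (congrArg Subtype.val h), j.rangeRestrict_surjective⟩
  let ρ' : B' →+* B₁ := re.symm.toRingHom.comp ((algebraMap B' B).codRestrict j.range hρ)
  have hjρ : ∀ y, j (ρ' y) = algebraMap B' B y := fun y =>
    congrArg Subtype.val (re.apply_symm_apply ((algebraMap B' B).codRestrict j.range hρ y))
  letI : Algebra B' B₁ := ρ'.toAlgebra
  letI : Algebra B₁ B := j.toAlgebra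
  haveI : IsScalarTower B' B₁ B := IsScalarTower.of_algebraMap_eq fun y => (hjρ y).symm
  let D₁ := B₁ ⊗[B'] D'
  let eD : B ⊗[B₁] D₁ ≃ₐ[B] D := (Algebra.TensorProduct.cancelBaseChange B' B₁ B B D').trans e'
  -- lift `t`
  have hβ : ∀ p : B × D', p ∈ St → ∃ β : B₁, j β = p.1 := fun p hp =>
    hT _ (Finset.mem_union_right _ (Finset.mem_image_of_mem _ hp))
  choose β hβ' using hβ
  let t₁ : D₁ := ∑ p ∈ St.attach, β p.1 p.2 ⊗ₜ[B'] p.1.2
  have ht₁ : eD ((1 : B) ⊗ₜ[B₁] t₁) = t := by
    show e' (Algebra.TensorProduct.cancelBaseChange B' B₁ B B D' _) = t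
    rw [TensorProduct.tmul_sum, map_sum]
    have : e'.symm t = ∑ p ∈ St.attach, p.1.1 ⊗ₜ[B'] p.1.2 := by
      rw [hSt, ← Finset.sum_attach St]
    rw [← e'.apply_symm_apply t, this]
    congr 1
    refine Finset.sum_congr rfl fun p _ => ?_
    rw [Algebra.TensorProduct.cancelBaseChange_tmul, Algebra.smul_def, mul_one]
    congr 1
    exact hβ' p.1 p.2
  exact immersive_of_model n Subtype.val_injective ε (fun _ => rfl) eD.toLinearEquiv t₁ ht₁ ht

end SliceDenseLib
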