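import Mathlib

/-!
# Étale slices of an algebra étale over a polynomial ring

Let `B` be étale over `A[T₁, …, Tₙ]` and `P₁, …, Pₙ` polynomials in one variable over `A`. The quotient of
`B[1/∏ᵢ Pᵢ'(Tᵢ)]` by the `Pᵢ(Tᵢ)` is étale over `A`.
-/

set_option autoImplicit false
set_option linter.style.haveILetI false

noncomputable section

universe u

open Polynomial

namespace SliceDenseLib

variable {A B : Type u} [CommRing A] [CommRing B] [Algebra A B] {n : ℕ}

/-- The product of the derivatives. -/
def den (τ : Fin n → B) (P : Fin n → A[X]) : B := ∏ i, aeval (τ i) (P i).derivative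

/-- The defining ideal of the slice. -/
def rel (τ : Fin n → B) (P : Fin n → A[X]) : Ideal (Localization.Away (den τ P)) :=
  Ideal.span (Set.range fun i => algebraMap B (Localization.Away (den τ P)) (aeval (τ i) (P i)))

/-- The slice. -/
abbrev Slice (τ : Fin n → B) (P : Fin n → A[X]) : Type u := Localization.Away (den τ P) ⧸ rel τ P

theorem aeval_eq_zero (τ : Fin n → B) (P : Fin n → A[X]) (i : Fin n) :
    algebraMap B (Slice τ P) (aeval (τ i) (P i)) = 0 := by
  rw [IsScalarTower.algebraMap_apply B (Localization.Away (den τ P)) (Slice τ P), Ideal.Quotient.algebraMap_eq,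
    Ideal.Quotient.eq_zero_iff_mem]
  exact Ideal.subset_span ⟨i, rfl⟩

theorem isUnit_den (τ : Fin n → B) (P : Fin n → A[X]) : IsUnit (algebraMap B (Slice τ P) (den τ P)) := by
  rw [IsScalarTower.algebraMap_apply B (Localization.Away (den τ P)) (Slice τ P)]
  exact (IsLocalization.Away.algebraMap_isUnit _).map _

theorem hom_ext (τ : Fin n → B) (P : Fin n → A[X]) {R : Type u} [CommRing R] [Algebra A R]
    {f g : Slice τ P →ₐ[A] R}
    (h : ∀ b, f (algebraMap B _ b) = g (algebraMap B _ b)) : f = g := by
  refine Ideal.Quotient.algHom_ext A (AlgHom.coe_ringHom_injective ?_)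
  refine IsLocalization.ringHom_ext (Submonoid.powers (den τ P)) ?_
  ext b
  exact h b

theorem exists_lift (τ : Fin n → B) (P : Fin n → A[X]) {R : Type u} [CommRing R] [Algebra A R]
    (ψ : B →ₐ[A] R) (hu : IsUnit (ψ (den τ P))) (h0 : ∀ i, ψ (aeval (τ i) (P i)) = 0) :
    ∃ φ : Slice τ P →ₐ[A] R, ∀ b, φ (algebraMap B _ b) = ψ b := by
  let l : Localization.Away (den τ P) →ₐ[A] R :=
    IsLocalization.liftAlgHom (M := Submonoid.powers (den τ P)) (f := ψ) (fun y => by
      obtain ⟨_, k, rfl⟩ := y
      rw [map_pow]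
      exact hu.pow k)
  have hl : ∀ b, l (algebraMap B _ b) = ψ b := fun b => by simp [l]
  refine ⟨Ideal.Quotient.liftₐ (rel τ P) l fun a ha => ?_, fun b => ?_⟩
  · have : rel τ P ≤ RingHom.ker l := Ideal.span_le.2 (by
      rintro _ ⟨i, rfl⟩
      exact (hl _).trans (h0 i))
    exact this ha
  · rw [IsScalarTower.algebraMap_apply B (Localization.Away (den τ P)) (Slice τ P)]
    exact hl b

/-- The slice is formally étale. -/
theorem formallyEtale_slice [Algebra (MvPolynomial (Fin n) A) B] [IsScalarTower A (MvPolynomial (Fin n) A) B]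
    [Algebra.FormallyEtale (MvPolynomial (Fin n) A) B] (P : Fin n → A[X]) :
    Algebra.FormallyEtale A (Slice (fun i => algebraMap (MvPolynomial (Fin n) A) B (.X i)) P) := by
  let τ : Fin n → B := fun i => algebraMap (MvPolynomial (Fin n) A) B (.X i)
  rw [Algebra.FormallyEtale.iff_comp_bijective]
  intro R _ _ I hI
  let π : R →ₐ[A] R ⧸ I := Ideal.Quotient.mkₐ A I
  have hnil : ∀ x : R, π x = 0 → IsNilpotent x := fun x hx =>
    ⟨2, by
      have h1 : x ∈ I := Ideal.Quotient.eq_zero_iff_mem.1 hx
      have := Ideal.pow_mem_pow h1 2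
      rw [hI] at this
      exact this⟩
  have hunit : ∀ x : R, IsUnit (π x) → IsUnit x := fun x hx => by
    obtain ⟨y, hy⟩ := Ideal.Quotient.mk_surjective (I := I) (↑hx.unit⁻¹ : R ⧸ I)
    have h1 : IsNilpotent (x * y - 1) := hnil _ (by
      rw [map_sub, map_mul, map_one, show π y = _ from hy, IsUnit.mul_val_inv, sub_self])
    exact isUnit_of_mul_isUnit_left (by simpa using h1.isUnit_add_one)
  refine ⟨fun f g hfg => ?_, fun φ => ?_⟩
  · refine hom_ext τ P fun b => ?_
    let f' : B →ₐ[A] R := f.comp (IsScalarTower.toAlgHom A B _)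
    let g' : B →ₐ[A] R := g.comp (IsScalarTower.toAlgHom A B _)
    suffices h : f' = g' from congr($h b)
    have hτ : ∀ i, f' (τ i) = g' (τ i) := fun i => by
      have hu : IsUnit (f' (den τ P)) := (isUnit_den τ P).map f
      have hu' : IsUnit (aeval (f' (τ i)) (P i).derivative) := by
        rw [aeval_algHom_apply]
        rw [den, map_prod, IsUnit.prod_iff] at hu
        exact hu i (Finset.mem_univ i)
      have h0 : ∀ k : Slice τ P →ₐ[A] R, aeval (k (algebraMap B _ (τ i))) (P i) = 0 := fun k => by
        rw [aeval_algHom_apply, aeval_algebraMap_apply, aeval_eq_zero, map_zero]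
      obtain ⟨r, -, hr⟩ := Polynomial.existsUnique_nilpotent_sub_and_aeval_eq_zero
        (x := f' (τ i)) (P := P i) (by rw [show aeval (f' (τ i)) (P i) = 0 from h0 f]; exact IsNilpotent.zero) hu'
      refine (hr (f' (τ i)) ⟨by rw [sub_self]; exact IsNilpotent.zero, h0 f⟩).trans (hr (g' (τ i)) ⟨hnil _ ?_, h0 g⟩).symm
      rw [map_sub, sub_eq_zero]
      exact congr($hfg (algebraMap B _ (τ i)))
    letI := (f'.comp (IsScalarTower.toAlgHom A (MvPolynomial (Fin n) A) B)).toRingHom.toAlgebra
    have hgT : g'.comp (IsScalarTower.toAlgHom A (MvPolynomial (Fin n) A) B) =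
        f'.comp (IsScalarTower.toAlgHom A (MvPolynomial (Fin n) A) B) :=
      MvPolynomial.algHom_ext fun i => (hτ i).symm
    let fP : B →ₐ[MvPolynomial (Fin n) A] R := { f'.toRingHom with commutes' := fun p => rfl }
    let gP : B →ₐ[MvPolynomial (Fin n) A] R := { g'.toRingHom with commutes' := fun p => congr($hgT p) }
    have h := (Algebra.FormallyEtale.comp_bijective (MvPolynomial (Fin n) A) B I hI).1
      (show (Ideal.Quotient.mkₐ _ I).comp fP = (Ideal.Quotient.mkₐ _ I).comp gP from
        AlgHom.ext fun b => congr($hfg (algebraMap B _ b)))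
    exact AlgHom.ext fun b => congr($h b)
  · let φ' : B →ₐ[A] R ⧸ I := φ.comp (IsScalarTower.toAlgHom A B _)
    choose x hx using fun i => Ideal.Quotient.mk_surjective (I := I) (φ' (τ i))
    have hu : ∀ i, IsUnit (aeval (x i) (P i).derivative) := fun i => hunit _ (by
      have h1 : IsUnit (φ' (den τ P)) := (isUnit_den τ P).map φ
      rw [den, map_prod, IsUnit.prod_iff] at h1
      rw [← aeval_algHom_apply, show π (x i) = _ from hx i, aeval_algHom_apply]
      exact h1 i (Finset.mem_univ i))
    have hn : ∀ i, IsNilpotent (aeval (x i) (P i)) := fun i => hnil _ (by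
      rw [← aeval_algHom_apply, show π (x i) = _ from hx i]
      show aeval (φ (algebraMap B (Slice τ P) (τ i))) (P i) = 0
      rw [aeval_algHom_apply, aeval_algebraMap_apply, aeval_eq_zero, map_zero])
    choose r hr _ using fun i => Polynomial.existsUnique_nilpotent_sub_and_aeval_eq_zero (hn i) (hu i)
    have hπr : ∀ i, π (r i) = φ' (τ i) := fun i => by
      have h1 : π (x i) = φ' (τ i) := hx i
      -- the Newton correction lies in the ideal
      have h2 : π (x i - r i) = 0 := by
        obtain ⟨d, hd⟩ := Polynomial.binomExpansion ((P i).map (algebraMap A (R ⧸ I))) (φ' (τ i))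
          (π (r i) - φ' (τ i))
        rw [add_sub_cancel, eval_map_algebraMap, eval_map_algebraMap, derivative_map, eval_map_algebraMap] at hd
        have e1 : aeval (π (r i)) (P i) = 0 := by rw [aeval_algHom_apply, (hr i).2, map_zero]
        have e2 : aeval (φ' (τ i)) (P i) = 0 := by
          show aeval (φ (algebraMap B (Slice τ P) (τ i))) (P i) = 0
          rw [aeval_algHom_apply, aeval_algebraMap_apply, aeval_eq_zero, map_zero]
        rw [e1, e2, zero_add] at hd
        have hz : IsNilpotent (π (r i) - φ' (τ i)) := by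
          rw [← h1, ← map_sub, ← neg_sub (x i) (r i), map_neg, isNilpotent_neg_iff]
          exact (hr i).1.map π
        have hu2 : IsUnit (aeval (φ' (τ i)) (P i).derivative + d * (π (r i) - φ' (τ i))) := by
          refine IsNilpotent.isUnit_add_left_of_commute ((Commute.all _ _).isNilpotent_mul_left hz) ?_ (Commute.all _ _)
          rw [← h1, aeval_algHom_apply]
          exact (hu i).map π
        have h3 : (aeval (φ' (τ i)) (P i).derivative + d * (π (r i) - φ' (τ i))) * (π (r i) - φ' (τ i)) = 0 := by
          rw [add_mul]; linear_combination -hd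
        rw [hu2.mul_right_eq_zero] at h3
        rw [map_sub, h1, ← neg_sub, h3, neg_zero]
      rw [map_sub, sub_eq_zero] at h2
      rw [← h2, h1]
    letI := (MvPolynomial.aeval (R := A) r).toRingHom.toAlgebra
    haveI : IsScalarTower A (MvPolynomial (Fin n) A) R :=
      IsScalarTower.of_algebraMap_eq fun a => ((MvPolynomial.aeval (R := A) r).commutes a).symm
    have hφT : φ'.comp (IsScalarTower.toAlgHom A (MvPolynomial (Fin n) A) B) =
        π.comp (MvPolynomial.aeval (R := A) r) := MvPolynomial.algHom_ext fun i => by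
      show φ' (τ i) = π (MvPolynomial.aeval r (MvPolynomial.X i))
      rw [MvPolynomial.aeval_X, hπr]
    let φP : B →ₐ[MvPolynomial (Fin n) A] R ⧸ I := { φ'.toRingHom with commutes' := fun p => congr($hφT p) }
    obtain ⟨ψP, hψP⟩ := (Algebra.FormallyEtale.comp_bijective (MvPolynomial (Fin n) A) B I hI).2 φP
    let ψ : B →ₐ[A] R := ψP.restrictScalars A
    have hψ : ∀ b, π (ψ b) = φ' b := fun b => congr($hψP b)
    obtain ⟨ψS, hψS⟩ := exists_lift τ P ψ (hunit _ (by rw [hψ]; exact (isUnit_den τ P).map φ)) fun i => by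
      rw [← aeval_algHom_apply, show ψ (τ i) = r i from ?_, (hr i).2]
      show ψP (algebraMap _ B (MvPolynomial.X i)) = r i
      rw [AlgHom.commutes]
      exact MvPolynomial.aeval_X r i
    exact ⟨ψS, hom_ext τ P fun b => by
      show π (ψS (algebraMap B _ b)) = φ' b
      rw [hψS, hψ]⟩

/-- The slice is étale. -/
theorem etale_slice [Algebra (MvPolynomial (Fin n) A) B] [IsScalarTower A (MvPolynomial (Fin n) A) B]
    [Algebra.Etale (MvPolynomial (Fin n) A) B] (P : Fin n → A[X]) :
    Algebra.Etale A (Slice (fun i => algebraMap (MvPolynomial (Fin n) A) B (.X i)) P) := by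
  let τ : Fin n → B := fun i => algebraMap (MvPolynomial (Fin n) A) B (.X i)
  haveI : Algebra.FinitePresentation A B := Algebra.FinitePresentation.trans A (MvPolynomial (Fin n) A) B
  haveI : Algebra.FinitePresentation B (Localization.Away (den τ P)) :=
    IsLocalization.Away.finitePresentation (den τ P)
  haveI : Algebra.FinitePresentation A (Localization.Away (den τ P)) := Algebra.FinitePresentation.trans A B _
  haveI : Algebra.FinitePresentation A (Slice τ P) :=
    Algebra.FinitePresentation.quotient (Submodule.fg_span (Set.finite_range _))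
  exact ⟨formallyEtale_slice P, inferInstance⟩

end SliceDenseLib
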