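import Groth.Agent.SliceDenseLib.Etale
import Groth.Agent.FlatLib.QFCover
import Groth.Agent.GenRedLib.Basic
import Groth.Agent.EtSectLib.Ring
import Mathlib

/-!
# Étale slices of a smooth algebra detect elements
-/

set_option autoImplicit false
set_option linter.style.haveILetI false

noncomputable section

universe u

open TensorProduct

namespace SliceDenseLib

/-- If `(J : a) = p` then `(J C : a) ⊆ p C` for a flat algebra `C`. -/
theorem mem_map_of_mul_mem {A C : Type u} [CommRing A] [CommRing C] [Algebra A C] [Module.Flat A C]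
    {p J : Ideal A} {a : A} (h : ∀ r, r * a ∈ J ↔ r ∈ p) {c : C}
    (hc : algebraMap A C a * c ∈ J.map (algebraMap A C)) : c ∈ p.map (algebraMap A C) := by
  let f : (A ⧸ p) →ₗ[A] A ⧸ J := Submodule.liftQ p ((Submodule.mkQ J).comp (LinearMap.toSpanSingleton A A a))
    (fun r hr => by
      rw [LinearMap.mem_ker, LinearMap.comp_apply, LinearMap.toSpanSingleton_apply, Submodule.mkQ_apply,
        Submodule.Quotient.mk_eq_zero, smul_eq_mul]
      exact (h r).2 hr)
  have hf : Function.Injective f := by
    rw [injective_iff_map_eq_zero]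
    intro x hx
    obtain ⟨r, rfl⟩ := Submodule.Quotient.mk_surjective _ x
    rw [Submodule.Quotient.mk_eq_zero]
    refine (h r).1 ?_
    rw [← Submodule.Quotient.mk_eq_zero J, ← smul_eq_mul]
    exact hx
  have hinj := Module.Flat.rTensor_preserves_injective_linearMap (M := C) f hf
  have h1 : f.rTensor C ((Submodule.Quotient.mk (1 : A) : A ⧸ p) ⊗ₜ[A] c) = 0 := by
    rw [LinearMap.rTensor_tmul]
    show (Submodule.Quotient.mk ((1 : A) • a) : A ⧸ J) ⊗ₜ[A] c = 0
    rw [one_smul, show (Submodule.Quotient.mk a : A ⧸ J) = a • Submodule.Quotient.mk (1 : A) by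
      rw [← Submodule.Quotient.mk_smul, smul_eq_mul, mul_one], TensorProduct.smul_tmul]
    apply (TensorProduct.quotTensorEquivQuotSMul C J).injective
    rw [map_zero]
    refine (TensorProduct.quotTensorEquivQuotSMul_mk_one_tmul J (a • c)).trans ?_
    rw [Submodule.Quotient.mk_eq_zero, Ideal.smul_top_eq_map, Submodule.restrictScalars_mem, Algebra.smul_def]
    exact hc
  have h2 := hinj (h1.trans (map_zero _).symm)
  have h3 := congrArg (TensorProduct.quotTensorEquivQuotSMul C p) h2
  rw [map_zero] at h3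
  have h4 : (Submodule.Quotient.mk c : C ⧸ (p • ⊤ : Submodule A C)) = 0 :=
    (TensorProduct.quotTensorEquivQuotSMul_mk_one_tmul p c).symm.trans h3
  rw [Submodule.Quotient.mk_eq_zero, Ideal.smul_top_eq_map] at h4
  exact h4

/-- A step in a filtration by finitely many generators. -/
theorem exists_step {A R : Type u} [CommRing A] [CommRing R] [Algebra A R] {J : Ideal A} {t : R}
    (ht : t ∉ J.map (algebraMap A R)) (s : Finset A) :
    t ∈ (J ⊔ Ideal.span (s : Set A)).map (algebraMap A R) →
      ∃ (J' : Ideal A) (a : A), J ≤ J' ∧ a ∈ s ∧ t ∉ J'.map (algebraMap A R) ∧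
        t ∈ (J' ⊔ Ideal.span {a}).map (algebraMap A R) := by
  classical
  induction s using Finset.induction_on with
  | empty => simp [ht]
  | @insert a s _ ih =>
    intro h
    by_cases h' : t ∈ (J ⊔ Ideal.span (s : Set A)).map (algebraMap A R)
    · obtain ⟨J', b, h1, h2, h3, h4⟩ := ih h'
      exact ⟨J', b, h1, Finset.mem_insert_of_mem h2, h3, h4⟩
    · refine ⟨J ⊔ Ideal.span (s : Set A), a, le_sup_left, Finset.mem_insert_self a s, h', ?_⟩
      rwa [Finset.coe_insert, Ideal.span_insert, sup_comm (Ideal.span {a}), ← sup_assoc] at h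

variable {A B : Type u} [CommRing A] [CommRing B] [Algebra A B] {n : ℕ}
  [Algebra (MvPolynomial (Fin n) A) B] [IsScalarTower A (MvPolynomial (Fin n) A) B]
  [Algebra.Etale (MvPolynomial (Fin n) A) B]

local notation "τ" => fun i => algebraMap (MvPolynomial (Fin n) A) B (MvPolynomial.X i)

/-- A point of a fibre with separable coordinates avoiding `b`, cut out by polynomials in one variable each. -/
theorem exists_separable_slice (p : Ideal A) [p.IsPrime] (x₀ : Ideal B) [x₀.IsPrime]
    (hx₀ : x₀.comap (algebraMap A B) = p) (b : B) (hb : b ∉ x₀) :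
    ∃ (P : Fin n → Polynomial A) (x : Ideal B), x.IsPrime ∧ x.comap (algebraMap A B) = p ∧ b ∉ x ∧
      den (τ) P ∉ x ∧ ∀ i, Polynomial.aeval ((τ) i) (P i) ∈ x := by
  classical
  haveI : Algebra.FinitePresentation (MvPolynomial (Fin n) A) B := inferInstance
  have hopen := PrimeSpectrum.isOpenMap_comap_of_hasGoingDown_of_finitePresentation
    (R := MvPolynomial (Fin n) A) (S := B) _ (PrimeSpectrum.isOpen_basicOpen (a := b))
  obtain ⟨_, ⟨g, rfl⟩, hg, hgU⟩ := PrimeSpectrum.isTopologicalBasis_basic_opens.exists_subset_of_mem_open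
    (Set.mem_image_of_mem _ (show (⟨x₀, inferInstance⟩ : PrimeSpectrum B) ∈ PrimeSpectrum.basicOpen b from hb)) hopen
  have hgm : MvPolynomial.map (algebraMap A p.ResidueField) g ≠ 0 := fun h0 => hg (by
    have hc : g ∈ p.map (MvPolynomial.C : A →+* MvPolynomial (Fin n) A) := by
      rw [MvPolynomial.mem_map_C_iff]
      intro m
      have := congrArg (MvPolynomial.coeff m) h0
      rwa [MvPolynomial.coeff_map, MvPolynomial.coeff_zero, Ideal.algebraMap_residueField_eq_zero] at this
    refine (show p.map MvPolynomial.C ≤ _ from Ideal.map_le_iff_le_comap.2 fun r hr => ?_) hc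
    show algebraMap (MvPolynomial (Fin n) A) B (algebraMap A (MvPolynomial (Fin n) A) r) ∈ x₀
    rw [← IsScalarTower.algebraMap_apply]
    rw [← hx₀] at hr
    exact hr)
  let K := SeparableClosure p.ResidueField
  haveI : Infinite K := EtSectLib.infinite_of_isSepClosed _
  obtain ⟨a, ha⟩ : ∃ a : Fin n → K, MvPolynomial.aeval a g ≠ 0 := by
    by_contra h
    push Not at h
    apply hgm
    apply MvPolynomial.map_injective (algebraMap p.ResidueField K) (RingHom.injective _)
    rw [map_zero, MvPolynomial.map_map, ← IsScalarTower.algebraMap_eq]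
    refine MvPolynomial.funext fun a => ?_
    rw [map_zero, MvPolynomial.eval_map, ← MvPolynomial.aeval_def]
    exact h a
  let e : MvPolynomial (Fin n) A →ₐ[A] K := MvPolynomial.aeval a
  let y₀ : PrimeSpectrum (MvPolynomial (Fin n) A) := ⟨RingHom.ker e.toRingHom, RingHom.ker_isPrime _⟩
  obtain ⟨⟨x, hx⟩, hbx, hxy⟩ := hgU (show y₀ ∈ PrimeSpectrum.basicOpen g from ha)
  have hxy' : x.comap (algebraMap (MvPolynomial (Fin n) A) B) = RingHom.ker e.toRingHom :=
    congrArg PrimeSpectrum.asIdeal hxy
  have hxp : x.comap (algebraMap A B) = p := by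
    rw [IsScalarTower.algebraMap_eq A (MvPolynomial (Fin n) A) B, ← Ideal.comap_comap, hxy']
    ext r
    show e (algebraMap A (MvPolynomial (Fin n) A) r) = 0 ↔ r ∈ p
    rw [AlgHom.commutes, IsScalarTower.algebraMap_apply A p.ResidueField K,
      map_eq_zero_iff _ (RingHom.injective _), Ideal.algebraMap_residueField_eq_zero]
  -- lift the minimal polynomials
  have hlift : ∀ i, ∃ P : Polynomial A, Polynomial.aeval (a i) P = 0 ∧
      Polynomial.aeval (a i) P.derivative ≠ 0 := fun i => by
    let μ := minpoly p.ResidueField (a i)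
    obtain ⟨c, hc, hQ⟩ := IsLocalization.integerNormalization_spec (nonZeroDivisors (A ⧸ p)) μ
    obtain ⟨P, hP⟩ := Polynomial.map_surjective (Ideal.Quotient.mk p) Ideal.Quotient.mk_surjective
      (IsLocalization.integerNormalization (nonZeroDivisors (A ⧸ p)) μ)
    have hPμ : P.map (algebraMap A p.ResidueField) = Polynomial.C (algebraMap (A ⧸ p) p.ResidueField c) * μ := by
      rw [IsScalarTower.algebraMap_eq A (A ⧸ p) p.ResidueField, ← Polynomial.map_map, Ideal.Quotient.algebraMap_eq,
        hP, hQ, ← algebraMap_smul p.ResidueField c μ, Polynomial.smul_eq_C_mul]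
    have hc0 : algebraMap (A ⧸ p) K c ≠ 0 := by
      rw [IsScalarTower.algebraMap_apply (A ⧸ p) p.ResidueField K, Ne, map_eq_zero_iff _ (RingHom.injective _)]
      exact IsFractionRing.to_map_ne_zero_of_mem_nonZeroDivisors hc
    have hsep : IsSeparable p.ResidueField (a i) := Algebra.IsSeparable.isSeparable _ _
    refine ⟨P, ?_, ?_⟩
    · rw [← Polynomial.aeval_map_algebraMap p.ResidueField, hPμ, map_mul, minpoly.aeval, mul_zero]
    · rw [← Polynomial.aeval_map_algebraMap p.ResidueField, ← Polynomial.derivative_map, hPμ,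
        Polynomial.derivative_C_mul, map_mul, Polynomial.aeval_C, ← IsScalarTower.algebraMap_apply]
      exact mul_ne_zero hc0 (Polynomial.Separable.aeval_derivative_ne_zero hsep (minpoly.aeval _ _))
  choose P hP hP' using hlift
  have key : ∀ (i : Fin n) (Q : Polynomial A), Polynomial.aeval ((τ) i) Q ∈ x ↔ Polynomial.aeval (a i) Q = 0 :=
    fun i Q => by
      have h1 : e (Polynomial.aeval (MvPolynomial.X i : MvPolynomial (Fin n) A) Q) = Polynomial.aeval (a i) Q := by
        rw [← Polynomial.aeval_algHom_apply]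
        simp [e]
      rw [← h1, Polynomial.aeval_algebraMap_apply]
      exact SetLike.ext_iff.1 hxy' _
  refine ⟨P, x, hx, hxp, hbx, ?_, fun i => (key i _).2 (hP i)⟩
  rw [den, hx.prod_mem_iff]
  rintro ⟨i, -, hi⟩
  exact hP' i ((key i _).1 hi)

variable [IsNoetherianRing A]

/-- A non-zero element is detected by a slice. -/
theorem exists_slice_ne_zero {t : B} (ht : t ≠ 0) :
    ∃ P : Fin n → Polynomial A, algebraMap B (Slice (τ) P) t ≠ 0 := by
  classical
  haveI : Algebra.Smooth A (MvPolynomial (Fin n) A) := ⟨inferInstance, inferInstance⟩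
  haveI : Algebra.Smooth A B := Algebra.Smooth.comp A (MvPolynomial (Fin n) A) B
  haveI : Algebra.FiniteType A B := inferInstance
  haveI : IsNoetherianRing B := Algebra.FiniteType.isNoetherianRing A B
  obtain ⟨q, hq, hqt⟩ : ∃ q : Ideal B, q.IsMaximal ∧ ∀ s, s * t = 0 → s ∈ q := by
    have h1 : (Ideal.torsionOf B B t) ≠ ⊤ := fun h => ht (by
      have := (Ideal.eq_top_iff_one _).1 h
      simpa using this)
    obtain ⟨q, hq, hle⟩ := Ideal.exists_le_maximal _ h1
    exact ⟨q, hq, fun s hs => hle (by simpa using hs)⟩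
  haveI := hq.isPrime
  let p := q.comap (algebraMap A B)
  let R := Localization.AtPrime q
  have hR : algebraMap B R t ≠ 0 := by
    rw [Ne, IsLocalization.map_eq_zero_iff q.primeCompl]
    rintro ⟨⟨s, hs⟩, h⟩
    exact hs (hqt s h)
  have hpR : p.map (algebraMap A R) ≤ IsLocalRing.maximalIdeal R := by
    rw [IsScalarTower.algebraMap_eq A B R, ← Ideal.map_map, ← Localization.AtPrime.map_eq_maximalIdeal]
    exact Ideal.map_mono Ideal.map_comap_le
  obtain ⟨k, hk, hk1⟩ : ∃ k : ℕ, algebraMap B R t ∈ (p ^ k).map (algebraMap A R) ∧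
      algebraMap B R t ∉ (p ^ (k + 1)).map (algebraMap A R) := by
    by_contra h
    push Not at h
    have hall : ∀ k, algebraMap B R t ∈ (p ^ k).map (algebraMap A R) := fun k => by
      induction k with
      | zero => rw [pow_zero, Ideal.one_eq_top, Ideal.map_top]; trivial
      | succ k ih => exact h k ih
    refine hR ?_
    have hbot := Ideal.iInf_pow_eq_bot_of_isLocalRing (I := p.map (algebraMap A R))
      (fun h => (IsLocalRing.maximalIdeal.isMaximal R).ne_top (top_le_iff.1 (h ▸ hpR)))
    have : algebraMap B R t ∈ ⨅ k, p.map (algebraMap A R) ^ k :=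
      Submodule.mem_iInf _ |>.2 fun k => by rw [← Ideal.map_pow]; exact hall k
    rw [hbot] at this
    exact this
  obtain ⟨s, hs⟩ : (p ^ k).FG := IsNoetherian.noetherian _
  obtain ⟨J, a, hJ, has, htJ, htJa⟩ := exists_step hk1 s (Ideal.map_mono (by
    rw [← hs]
    exact le_sup_right) hk)
  have hak : a ∈ p ^ k := by rw [← hs]; exact Submodule.subset_span has
  have hcolon : ∀ r, r * a ∈ J ↔ r ∈ p := fun r => by
    refine ⟨fun h => ?_, fun h => hJ (by rw [pow_succ']; exact Ideal.mul_mem_mul h hak)⟩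
    by_contra hr
    refine htJ ?_
    have hu : IsUnit (algebraMap A R r) := by
      rw [IsScalarTower.algebraMap_apply A B R]
      exact IsLocalization.map_units R (⟨algebraMap A B r, hr⟩ : q.primeCompl)
    have ha : algebraMap A R a ∈ J.map (algebraMap A R) :=
      (Ideal.unit_mul_mem_iff_mem _ hu).1 (by rw [← map_mul]; exact Ideal.mem_map_of_mem _ h)
    refine (show (J ⊔ Ideal.span {a}).map (algebraMap A R) ≤ J.map (algebraMap A R) from ?_) htJa
    rw [Ideal.map_sup, Ideal.map_span, Set.image_singleton]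
    exact sup_le le_rfl ((Ideal.span_singleton_le_iff_mem _).2 ha)
  -- clear the denominators
  obtain ⟨s₀, hs₀, hsum⟩ : ∃ s₀ ∉ q, s₀ * t ∈ (J ⊔ Ideal.span {a}).map (algebraMap A B) := by
    rw [IsScalarTower.algebraMap_eq A B R, ← Ideal.map_map,
      IsLocalization.algebraMap_mem_map_algebraMap_iff q.primeCompl] at htJa
    obtain ⟨s₀, hs₀, h⟩ := htJa
    exact ⟨s₀, hs₀, h⟩
  rw [Ideal.map_sup, Ideal.map_span, Set.image_singleton, Submodule.mem_sup] at hsum
  obtain ⟨j, hj, z, hz, hjz⟩ := hsum
  obtain ⟨b, rfl⟩ := Ideal.mem_span_singleton'.1 hz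
  -- `b` does not vanish on the whole fibre
  have hb : ∀ r ∉ q, r * b ∉ p.map (algebraMap A B) := fun r hr h => htJ (by
    rw [IsScalarTower.algebraMap_eq A B R, ← Ideal.map_map,
      IsLocalization.algebraMap_mem_map_algebraMap_iff q.primeCompl]
    refine ⟨r * s₀, q.primeCompl.mul_mem hr hs₀, ?_⟩
    rw [mul_assoc, ← hjz, mul_add]
    refine add_mem (Ideal.mul_mem_left _ _ hj) ?_
    rw [← mul_assoc]
    have h1 : ∀ w ∈ p.map (algebraMap A B), w * algebraMap A B a ∈ J.map (algebraMap A B) := fun w hw => by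
      have h2 : w * algebraMap A B a ∈ p.map (algebraMap A B) * (Ideal.span {a}).map (algebraMap A B) :=
        Ideal.mul_mem_mul hw (Ideal.mem_map_of_mem _ (Ideal.mem_span_singleton_self a))
      rw [← Ideal.map_mul] at h2
      refine Ideal.map_mono (Ideal.mul_le.2 fun x hx y hy => ?_) h2
      obtain ⟨c, rfl⟩ := Ideal.mem_span_singleton'.1 hy
      rw [← mul_assoc]
      exact (hcolon _).2 (Ideal.mul_mem_right _ _ hx)
    exact h1 _ h)
  haveI : p.IsPrime := Ideal.IsPrime.comap _
  haveI : _root_.IsReduced (p.Fiber B) := isReduced_smooth p.ResidueField (p.Fiber B)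
  let ι : B →ₐ[A] p.Fiber B := Algebra.TensorProduct.includeRight
  have hι : ι b ≠ 0 := fun h => by
    obtain ⟨r, hr, hrb⟩ := FlatLib.exists_mul_mem_map_of_fiber_eq_zero p h q rfl
    exact hb r hr hrb
  obtain ⟨Q, hQ, hbQ⟩ : ∃ Q : Ideal (p.Fiber B), Q.IsPrime ∧ ι b ∉ Q := by
    by_contra h
    push Not at h
    refine hι (IsReduced.eq_zero _ ?_)
    rw [← mem_nilradical, nilradical_eq_sInf, Ideal.mem_sInf]
    exact fun I hI => h I hI
  have hQp : (Q.comap ι.toRingHom).comap (algebraMap A B) = p := by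
    rw [Ideal.comap_comap, show ι.toRingHom.comp (algebraMap A B) = algebraMap A (p.Fiber B) from ι.comp_algebraMap,
      IsScalarTower.algebraMap_eq A p.ResidueField (p.Fiber B),
      ← Ideal.comap_comap]
    have h0 : Q.comap (algebraMap p.ResidueField (p.Fiber B)) = ⊥ :=
      (Ideal.eq_bot_or_top _).resolve_right (Ideal.IsPrime.comap _).ne_top
    rw [h0, ← RingHom.ker_eq_comap_bot, Ideal.ker_algebraMap_residueField]
  obtain ⟨P, x, hx, hxp, hbx, hden, hPx⟩ := exists_separable_slice (n := n) p (Q.comap ι.toRingHom) hQp b hbQ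
  refine ⟨P, fun h0 => ?_⟩
  haveI := hx
  haveI : Algebra.Etale A (Slice (τ) P) := etale_slice P
  have hmul : algebraMap A (Slice (τ) P) a * algebraMap B _ b ∈ J.map (algebraMap A (Slice (τ) P)) := by
    have h1 : algebraMap B (Slice (τ) P) (s₀ * t) = 0 := by rw [map_mul, h0, mul_zero]
    rw [← hjz, map_add, map_mul, ← IsScalarTower.algebraMap_apply, add_eq_zero_iff_eq_neg'] at h1
    rw [mul_comm, h1, neg_mem_iff, IsScalarTower.algebraMap_eq A B (Slice (τ) P), ← Ideal.map_map]
    exact Ideal.mem_map_of_mem _ hj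
  have hbC := mem_map_of_mul_mem hcolon hmul
  obtain ⟨φ, hφ⟩ := exists_lift (A := A) (τ) P (IsScalarTower.toAlgHom A B x.ResidueField)
    (isUnit_iff_ne_zero.2 fun h => hden (Ideal.algebraMap_residueField_eq_zero.1 h))
    fun i => Ideal.algebraMap_residueField_eq_zero.2 (hPx i)
  have hker : p.map (algebraMap A (Slice (τ) P)) ≤ RingHom.ker φ := Ideal.map_le_iff_le_comap.2 fun r hr => by
    show φ (algebraMap A _ r) = 0
    rw [AlgHom.commutes, IsScalarTower.algebraMap_apply A B x.ResidueField]
    exact Ideal.algebraMap_residueField_eq_zero.2 (by rw [← hxp] at hr; exact hr)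
  have h2 : φ (algebraMap B _ b) = 0 := hker hbC
  rw [hφ] at h2
  exact hbx (Ideal.algebraMap_residueField_eq_zero.1 h2)

end SliceDenseLib
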